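import Groth.Agent.L05.GabberRig.Global
import Groth.Agent.L05.Hensel.Perm
import Mathlib.RingTheory.Spectrum.Prime.ConstructibleSet
import Mathlib.RingTheory.Nilpotent.Lemmas
import Mathlib.RingTheory.Localization.Ideal
import Mathlib.RingTheory.Finiteness.Ideal

/-! # Rigidity of clopens of a punctured henselian pair along a completion -/

set_option autoImplicit false

universe u

namespace Groth.L05.GabberRig

open PrimeSpectrum Topology

variable {A : Type u} [CommRing A]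

/-- A specialisation of primes is realised by a valuation ring, the special point going to the closed one. -/
theorem exists_valuationRing' (x y : PrimeSpectrum A) (hxy : x.asIdeal ≤ y.asIdeal) :
    ∃ (V : Type u) (_ : CommRing V) (_ : IsDomain V) (_ : ValuationRing V) (ψ : A →+* V),
      RingHom.ker ψ = x.asIdeal ∧ (∀ a ∈ y.asIdeal, ψ a ∈ nonunits V) ∧
        ∀ a ∉ y.asIdeal, IsUnit (ψ a) := by
  let L := Localization.AtPrime y.asIdeal
  have hdis : Disjoint (y.asIdeal.primeCompl : Set A) x.asIdeal :=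
    Set.disjoint_left.mpr fun a ha hax => ha (hxy hax)
  haveI hx' := IsLocalization.isPrime_of_isPrime_disjoint y.asIdeal.primeCompl L x.asIdeal x.2 hdis
  obtain ⟨V, _, _, _, χ, hker, hnon⟩ := exists_valuationRing
    (⟨x.asIdeal.map (algebraMap A L), hx'⟩ : PrimeSpectrum L) (IsLocalRing.closedPoint L)
    (IsLocalRing.le_maximalIdeal hx'.ne_top)
  refine ⟨V, inferInstance, inferInstance, inferInstance, χ.comp (algebraMap A L), ?_, ?_, ?_⟩
  · rw [← RingHom.comap_ker, hker]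
    exact IsLocalization.under_map_of_isPrime_disjoint y.asIdeal.primeCompl L x.2 hdis
  · exact fun a ha => hnon _ (by
      show algebraMap A L a ∈ IsLocalRing.maximalIdeal L
      exact (IsLocalization.AtPrime.to_map_mem_maximal_iff L y.asIdeal a).mpr ha)
  · exact fun a ha => (IsLocalization.map_units L (⟨a, ha⟩ : y.asIdeal.primeCompl)).map χ

theorem exists_pow_eq_zero {R : Type u} [CommRing R] {ι : Type} [Finite ι] (x : ι → R)
    (h : ∀ k, ∀ p : PrimeSpectrum R, x k ∈ p.asIdeal) : ∃ M, 0 < M ∧ ∀ k, x k ^ M = 0 := by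
  haveI := Fintype.ofFinite ι
  choose m hm using fun k => (nilpotent_iff_mem_prime (x := x k)).mpr fun P hP => h k ⟨P, hP⟩
  exact ⟨Finset.univ.sup m + 1, Nat.succ_pos _, fun k => pow_eq_zero_of_le
    ((Finset.le_sup (Finset.mem_univ k)).trans (Nat.le_succ _)) (hm k)⟩

theorem isOpen_union_image {C : Type u} [CommRing C] (mk : A →+* C)
    (hmk : Function.Surjective mk) (hfg : (RingHom.ker mk).FG) (W₀ : Set (PrimeSpectrum A))
    (hW₀ : IsOpen W₀) (hW₀c : IsCompact W₀) (S : Set (PrimeSpectrum C)) (hS : IsOpen S)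
    (hSc : IsCompact S)
    (key : ∀ x : PrimeSpectrum A, x ∉ zeroLocus (RingHom.ker mk : Set A) →
      ∀ s ∈ S, x ≤ comap mk s → x ∈ W₀) :
    IsOpen (W₀ ∪ comap mk '' S) := by
  have hemb : IsClosedEmbedding (comap mk) := isClosedEmbedding_comap_of_surjective _ mk hmk
  obtain ⟨O, hO, rfl⟩ := hemb.isInducing.isOpen_iff.mp hS
  obtain ⟨O', hO'c, hO', hSO', hO'O⟩ := PrespectralSpace.exists_isCompact_and_isOpen_between
    (hSc.image hemb.continuous) hO (Set.image_preimage_subset _ _)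
  have heq : comap mk '' (comap mk ⁻¹' O) = zeroLocus (RingHom.ker mk : Set A) ∩ O' := by
    ext x
    constructor
    · intro hx
      refine ⟨?_, hSO' hx⟩
      rw [← range_comap_of_surjective _ mk hmk]
      exact Set.image_subset_range _ _ hx
    · rintro ⟨hx, hxO⟩
      rw [← range_comap_of_surjective _ mk hmk] at hx
      obtain ⟨s, rfl⟩ := hx
      exact ⟨s, hO'O hxO, rfl⟩
  have hZc : IsCompact (zeroLocus (RingHom.ker mk : Set A))ᶜ :=
    (QuasiSeparatedSpace.isRetrocompact_iff_isCompact (isClosed_zeroLocus _).isOpen_compl).mp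
      (isRetrocompact_zeroLocus_compl_of_fg hfg)
  refine isOpen_of_stableUnderGeneralization_of_isConstructible ?_ ?_
  · intro y x hxy hy
    rcases hy with hy | hy
    · exact Or.inl (hxy.mem_open hW₀ hy)
    · by_cases hx : x ∈ zeroLocus (RingHom.ker mk : Set A)
      · rw [heq] at hy ⊢
        exact Or.inr ⟨hx, hxy.mem_open hO' hy.2⟩
      · obtain ⟨s, hs, rfl⟩ := hy
        exact Or.inl (key x hx s hs ((le_iff_specializes _ _).mpr hxy))
  · rw [heq]
    exact (hW₀c.isConstructible hW₀).union (IsConstructible.inter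
      (isConstructible_compl.mp (hZc.isConstructible (isClosed_zeroLocus _).isOpen_compl))
      (hO'c.isConstructible hO'))

theorem map_span_le_of_dvd {R : Type u} [CommRing R] (ψ : A →+* R) {ι : Type*} (F : ι → A) (t : R)
    (h : ∀ j, t ∣ ψ (F j)) : (Ideal.span (Set.range F)).map ψ ≤ Ideal.span {t} := by
  rw [Ideal.map_span]
  refine Ideal.span_le.mpr ?_
  rintro _ ⟨_, ⟨l, rfl⟩, rfl⟩
  exact Ideal.mem_span_singleton.mpr (h l)

theorem pow_mem_of_pow_eq_zero {B : Type u} [CommRing B] (φ : A →+* B) {K : Ideal B} {x : A} {X : B}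
    (h : Ideal.Quotient.mk K X = Ideal.Quotient.mk K (φ x)) {M : ℕ} (hX : X ^ M = 0) :
    φ (x ^ M) ∈ K := by
  rw [← Ideal.Quotient.eq_zero_iff_mem, map_pow, map_pow, ← h, ← map_pow, hX, map_zero]

variable {B : Type u} [CommRing B] (I : Ideal A) (φ : A →+* B)
  (hs : ∀ (N : ℕ) (y : B), ∃ x : A, y - φ x ∈ (I ^ N).map φ)
  (hi : ∀ (N : ℕ) (x : A), φ x ∈ (I ^ N).map φ → x ∈ I ^ N)
include hs hi

theorem exists_retraction : ∃ σ : B →+* A ⧸ I, Function.Surjective σ ∧
    σ.comp φ = Ideal.Quotient.mk I ∧ RingHom.ker σ = I.map φ := by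
  let q : A ⧸ I →+* B ⧸ I.map φ := Ideal.quotientMap (I.map φ) φ Ideal.le_comap_map
  have hq : Function.Bijective q := by
    refine ⟨(injective_iff_map_eq_zero _).mpr fun z hz => ?_, fun z => ?_⟩
    · obtain ⟨x, rfl⟩ := Ideal.Quotient.mk_surjective z
      rw [Ideal.quotientMap_mk, Ideal.Quotient.eq_zero_iff_mem] at hz
      rw [Ideal.Quotient.eq_zero_iff_mem]
      simpa using hi 1 x (by simpa using hz)
    · obtain ⟨y, rfl⟩ := Ideal.Quotient.mk_surjective z
      obtain ⟨x, hx⟩ := hs 1 y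
      refine ⟨Ideal.Quotient.mk I x, ?_⟩
      rw [Ideal.quotientMap_mk, Ideal.Quotient.eq]
      simpa using neg_mem hx
  let E := RingEquiv.ofBijective q hq
  refine ⟨E.symm.toRingHom.comp (Ideal.Quotient.mk (I.map φ)),
    E.symm.surjective.comp Ideal.Quotient.mk_surjective, ?_, ?_⟩
  · ext x
    refine E.symm_apply_eq.mpr ?_
    show Ideal.Quotient.mk (I.map φ) (φ x) = q (Ideal.Quotient.mk I x)
    exact (Ideal.quotientMap_mk (H := Ideal.le_comap_map)).symm
  · rw [RingHom.ker_comp_of_injective _ E.symm.injective, Ideal.mk_ker]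

variable (hJac : I.map φ ≤ Ideal.jacobson ⊥) (hI : I.FG) [HenselianRing A I]
  (U : Set (PrimeSpectrum A)) (hUo : IsOpen U) (hUI : (zeroLocus (I : Set A))ᶜ ⊆ U)
include hI hUo hUI

omit hi in
theorem mem_of_preimage_mem {T₁ T₂ : Set (PrimeSpectrum A)} (hT₁ : IsOpen T₁)
    (hT₁' : IsOpen (U \ T₁)) (hT₁U : T₁ ⊆ U) (hT₂ : IsOpen T₂) (hT₂' : IsOpen (U \ T₂))
    (σ : B →+* A ⧸ I) (hσ : σ.comp φ = Ideal.Quotient.mk I)
    (hi : ∀ (N : ℕ) (x : A), φ x ∈ (I ^ N).map φ → x ∈ I ^ N)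
    (h : ∀ p : PrimeSpectrum B, comap φ p ∈ T₁ → comap φ p ∈ T₂) : T₁ ⊆ T₂ := by
  intro x hx₁
  by_contra hx₂
  by_cases hxI : x ∈ zeroLocus (I : Set A)
  · rw [← Ideal.mk_ker (I := I), ← range_comap_of_surjective _ _ Ideal.Quotient.mk_surjective] at hxI
    obtain ⟨s, rfl⟩ := hxI
    rw [← hσ] at hx₁ hx₂
    exact hx₂ (h (comap σ s) hx₁)
  obtain ⟨r, f, hf⟩ := Submodule.fg_iff_exists_fin_generating_family.mp hI
  change Ideal.span (Set.range f) = I at hf
  have hfI : ∀ i, f i ∈ I := fun i => hf ▸ Ideal.subset_span ⟨i, rfl⟩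
  obtain ⟨m, hm, hxm⟩ := Ideal.exists_le_maximal _ x.2.ne_top
  obtain ⟨V, _, _, _, ψ, hker, hnon⟩ := exists_valuationRing x ⟨m, hm.isPrime⟩ hxm
  have hf0 : ∃ i, ψ (f i) ≠ 0 := by
    by_contra hc
    push Not at hc
    refine hxI fun a ha => ?_
    rw [← hker]
    rw [← hf] at ha
    exact (Ideal.span_le.mpr (by rintro _ ⟨i, rfl⟩; exact hc i) :
      Ideal.span (Set.range f) ≤ RingHom.ker ψ) ha
  obtain ⟨i, hti, hdiv⟩ := exists_dvd_all (fun j => ψ (f j)) hf0.choose hf0.choose_spec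
  have htm : ψ (f i) ∈ nonunits V := hnon _ (by
    refine (?_ : Ideal.jacobson (⊥ : Ideal A) ≤ m) (HenselianRing.jac (hfI i))
    exact sInf_le ⟨bot_le, hm⟩)
  have hE : IsOpen (T₁ ∩ (U \ T₂)) := hT₁.inter hT₂'
  have hE' : IsOpen (U \ (T₁ ∩ (U \ T₂))) := by
    rw [Set.sdiff_inter]
    refine hT₁'.union ?_
    rw [sdiff_sdiff_right_self]
    exact hUo.inter hT₂
  have hDU : (basicOpen (f i) : Set (PrimeSpectrum A)) ⊆ U := fun p hp =>
    hUI fun h' => hp (h' (hfI i))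
  obtain ⟨n, c, hc⟩ := exists_fun (f i) U _ hE hE' (Set.inter_subset_left.trans hT₁U) hDU
  obtain ⟨M, hM⟩ : IsNilpotent (φ (c * f i)) := nilpotent_iff_mem_prime.mpr fun P hP => by
    rw [map_mul]
    by_cases hfP : φ (f i) ∈ P
    · exact Ideal.mul_mem_left _ _ hfP
    · refine Ideal.mul_mem_right _ _ ((hc (comap φ ⟨P, hP⟩) hfP).2 ?_)
      exact fun hpE => hpE.2.2 (h ⟨P, hP⟩ hpE.1)
  have h1 : (c * f i) ^ M ∈ I ^ ((n + 1) * M + 1) :=
    hi _ _ (by rw [map_pow, hM]; exact zero_mem _)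
  have hc' : ψ c = ψ (f i) ^ n := by
    have hxU : x ∈ U := hT₁U hx₁
    have := (hc x (fun h' => hti (RingHom.mem_ker.mp (hker ▸ h')))).1 ⟨hx₁, hxU, hx₂⟩
    rw [← hker, RingHom.mem_ker, map_sub, map_pow, sub_eq_zero] at this
    exact this
  have h2 : ψ ((c * f i) ^ M) ∈ Ideal.span {ψ (f i)} ^ ((n + 1) * M + 1) := by
    refine Ideal.pow_right_mono (map_span_le_of_dvd ψ f _ hdiv) _ ?_
    rw [← Ideal.map_pow, hf]
    exact Ideal.mem_map_of_mem ψ h1
  rw [map_pow, map_mul, hc', ← pow_succ, ← pow_mul, Ideal.span_singleton_pow,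
    Ideal.mem_span_singleton] at h2
  exact Nat.not_succ_le_self _ ((pow_dvd_pow_iff hti htm).mp h2)

include hJac in
theorem exists_clopen {σ : B →+* A ⧸ I} (hσs : Function.Surjective σ)
    (hσ : σ.comp φ = Ideal.Quotient.mk I) (hσk : RingHom.ker σ = I.map φ)
    (hUc : IsCompact U) {T' : Set (PrimeSpectrum B)} (hT' : IsOpen T')
    (hT'' : IsOpen (comap φ ⁻¹' U \ T')) (hT'U : T' ⊆ comap φ ⁻¹' U) :
    ∃ W : Set (PrimeSpectrum A), W ⊆ U ∧ IsOpen W ∧ IsOpen (U \ W) ∧ comap φ ⁻¹' W = T' := by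
  classical
  obtain ⟨r, f, hf⟩ := Submodule.fg_iff_exists_fin_generating_family.mp hI
  change Ideal.span (Set.range f) = I at hf
  have hfI : ∀ i, f i ∈ I := fun i => hf ▸ Ideal.subset_span ⟨i, rfl⟩
  set Z := zeroLocus (I : Set A) with hZdef
  set κ := comap (Ideal.Quotient.mk I) with hκdef
  set κ' := comap σ with hκ'def
  have hκ : ∀ s, comap φ (κ' s) = κ s := fun s => by rw [hκdef, ← hσ]; rfl
  have hκr : Set.range κ = Z := by
    rw [hκdef, range_comap_of_surjective _ _ Ideal.Quotient.mk_surjective, Ideal.mk_ker]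
  have hκinj : Function.Injective κ :=
    comap_injective_of_surjective _ Ideal.Quotient.mk_surjective
  -- the functions on the punctured spectra
  have hfun : ∀ i, ∃ (n : ℕ) (c : B), ∀ p : PrimeSpectrum B, φ (f i) ∉ p.asIdeal →
      (p ∈ T' → c - φ (f i) ^ n ∈ p.asIdeal) ∧ (p ∉ T' → c ∈ p.asIdeal) := fun i =>
    exists_fun (φ (f i)) _ T' hT' hT'' hT'U fun p hp => hUI fun h' => hp (h' (hfI i))
  choose nn cc hcc using hfun
  obtain ⟨n, hn⟩ : ∃ n, ∀ i, nn i < n :=
    ⟨Finset.univ.sup nn + 1, fun i => Nat.lt_succ_of_le (Finset.le_sup (Finset.mem_univ i))⟩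
  have hn0 : ∀ i : Fin r, n ≠ 0 := fun i => Nat.ne_of_gt (lt_of_le_of_lt (Nat.zero_le _) (hn i))
  let F : Fin r → A := fun i => f i ^ n
  let bb : Fin r → B := fun i => cc i * φ (f i) ^ (n - nn i)
  have hb0 : ∀ (p : PrimeSpectrum B) i, φ (f i) ∈ p.asIdeal →
      bb i ∈ p.asIdeal ∧ φ (F i) ∈ p.asIdeal := fun p i h =>
    ⟨Ideal.mul_mem_left _ _ (Ideal.pow_mem_of_mem _ h _ (by have := hn i; omega)),
      by rw [map_pow]; exact Ideal.pow_mem_of_mem _ h _ (Nat.pos_of_ne_zero (hn0 i))⟩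
  have hb1 : ∀ (p : PrimeSpectrum B) i, φ (f i) ∉ p.asIdeal →
      (p ∈ T' → bb i - φ (F i) ∈ p.asIdeal) ∧ (p ∉ T' → bb i ∈ p.asIdeal) := fun p i h =>
    ⟨fun hp => by
      have := Ideal.mul_mem_right (φ (f i) ^ (n - nn i)) _ ((hcc i p h).1 hp)
      rw [sub_mul, ← pow_add, Nat.add_sub_cancel' (hn i).le] at this
      show cc i * φ (f i) ^ (n - nn i) - φ (f i ^ n) ∈ _
      rw [map_pow]
      exact this,
    fun hp => Ideal.mul_mem_right _ _ ((hcc i p h).2 hp)⟩
  have hnil₁ : ∀ i, ∀ p : PrimeSpectrum B, bb i * (bb i - φ (F i)) ∈ p.asIdeal := fun i p => by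
    by_cases h : φ (f i) ∈ p.asIdeal
    · exact Ideal.mul_mem_right _ _ (hb0 p i h).1
    by_cases hp : p ∈ T'
    · exact Ideal.mul_mem_left _ _ ((hb1 p i h).1 hp)
    · exact Ideal.mul_mem_right _ _ ((hb1 p i h).2 hp)
  have hnil₂ : ∀ ij : Fin r × Fin r, ∀ p : PrimeSpectrum B,
      bb ij.1 * φ (F ij.2) - bb ij.2 * φ (F ij.1) ∈ p.asIdeal := by
    rintro ⟨i, j⟩ p
    by_cases h : φ (f i) ∈ p.asIdeal
    · exact sub_mem (Ideal.mul_mem_right _ _ (hb0 p i h).1) (Ideal.mul_mem_left _ _ (hb0 p i h).2)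
    by_cases h' : φ (f j) ∈ p.asIdeal
    · exact sub_mem (Ideal.mul_mem_left _ _ (hb0 p j h').2) (Ideal.mul_mem_right _ _ (hb0 p j h').1)
    show bb i * φ (F j) - bb j * φ (F i) ∈ _
    by_cases hp : p ∈ T'
    · rw [show bb i * φ (F j) - bb j * φ (F i) =
        (bb i - φ (F i)) * φ (F j) - (bb j - φ (F j)) * φ (F i) by ring]
      exact sub_mem (Ideal.mul_mem_right _ _ ((hb1 p i h).1 hp))
        (Ideal.mul_mem_right _ _ ((hb1 p j h').1 hp))
    · exact sub_mem (Ideal.mul_mem_right _ _ ((hb1 p i h).2 hp))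
        (Ideal.mul_mem_right _ _ ((hb1 p j h').2 hp))
  obtain ⟨M, hM0, hM⟩ := exists_pow_eq_zero (Sum.elim (fun i => bb i * (bb i - φ (F i)))
    fun ij : Fin r × Fin r => bb ij.1 * φ (F ij.2) - bb ij.2 * φ (F ij.1))
    (fun k => k.rec hnil₁ hnil₂)
  set I₁ := Ideal.span (Set.range F)
  have hI₁ : I ≤ I₁.radical := by
    rw [← hf]
    refine Ideal.span_le.mpr ?_
    rintro _ ⟨i, rfl⟩
    exact ⟨n, Ideal.subset_span ⟨i, rfl⟩⟩
  have hpow : ∀ N, ∃ N', I ^ (N' + 1) ≤ I₁ ^ N := fun N => by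
    obtain ⟨k, hk⟩ := Ideal.exists_pow_le_of_le_radical_of_fg hI₁ hI
    refine ⟨k * N, (Ideal.pow_le_pow_right (Nat.le_succ _)).trans ?_⟩
    rw [pow_mul]
    exact Ideal.pow_right_mono hk N
  set N := 2 * M + 1 with hNdef
  obtain ⟨N', hN'⟩ := hpow N
  choose a ha using fun i => hs (N' + 1) (bb i)
  have hq : ∀ i, Ideal.Quotient.mk ((I ^ (N' + 1)).map φ) (bb i) =
      Ideal.Quotient.mk ((I ^ (N' + 1)).map φ) (φ (a i)) := fun i => Ideal.Quotient.eq.mpr (ha i)
  have hd : Data F a M N := by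
    refine ⟨hM0, by omega, fun i => hN' (hi _ _ ?_), fun i j => hN' (hi _ _ ?_)⟩
    · refine pow_mem_of_pow_eq_zero φ (X := bb i * (bb i - φ (F i))) ?_ (hM (Sum.inl i))
      simp only [map_mul, map_sub, hq i]
    · refine pow_mem_of_pow_eq_zero φ (X := bb i * φ (F j) - bb j * φ (F i)) ?_ (hM (Sum.inr (i, j)))
      simp only [map_mul, map_sub, hq i, hq j]
  have hle1 : ∀ k, (I ^ (k + 1)).map φ ≤ I.map φ := fun k =>
    Ideal.map_mono (Ideal.pow_le_self (Nat.succ_ne_zero k))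
  have hJI : J F a ≤ I := by
    refine Ideal.span_le.mpr ?_
    rintro _ ⟨i | i, rfl⟩
    · exact Ideal.pow_mem_of_mem _ (hfI i) _ (Nat.pos_of_ne_zero (hn0 i))
    · show a i ∈ I
      have hbI : bb i ∈ I.map φ := Ideal.mul_mem_left _ _
        (Ideal.pow_mem_of_mem _ (Ideal.mem_map_of_mem φ (hfI i)) _ (by have := hn i; omega))
      have : φ (a i) ∈ I.map φ := by
        simpa using sub_mem hbI (hle1 N' (ha i))
      simpa using hi 1 (a i) (by simpa using this)
  have hJZ : zeroLocus (J F a : Set A) = Z := by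
    refine Set.Subset.antisymm (fun x hx => ?_) (zeroLocus_anti_mono hJI)
    intro c hc
    rw [← hf] at hc
    refine (Ideal.span_le.mpr ?_ : Ideal.span (Set.range f) ≤ x.asIdeal) hc
    rintro _ ⟨i, rfl⟩
    exact x.2.mem_of_pow_mem n (hx (F_mem hd i))
  haveI : HenselianRing A (J F a) := henselianRing_mono hJI
  obtain ⟨W₀, hW₀s, hW₀, hW₀', hprop⟩ := exists_clopen_of_data hd
  rw [hJZ] at hW₀s hW₀'
  have htpow : ∀ {V : Type u} [CommRing V] (ψ : A →+* V) (t : V) (K : ℕ),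
      (∀ j, t ∣ ψ (F j)) → ∀ x ∈ I₁ ^ K, ψ x ∈ Ideal.span {t ^ K} := by
    intro V _ ψ t K h x hx
    rw [← Ideal.span_singleton_pow]
    refine Ideal.pow_right_mono (map_span_le_of_dvd ψ F t h) K ?_
    rw [← Ideal.map_pow]
    exact Ideal.mem_map_of_mem ψ hx
  -- the fibre over the punctured spectrum
  have keyB : ∀ p : PrimeSpectrum B, comap φ p ∉ Z → (comap φ p ∈ W₀ ↔ p ∈ T') := by
    intro p hp
    obtain ⟨m, hm, hpm⟩ := Ideal.exists_le_maximal _ p.2.ne_top
    obtain ⟨V, _, _, _, χ, hker, hnon⟩ := exists_valuationRing p ⟨m, hm.isPrime⟩ hpm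
    have hIm : I.map φ ≤ m := hJac.trans (sInf_le ⟨bot_le, hm⟩)
    have hf0 : ∃ i, χ (φ (F i)) ≠ 0 := by
      by_contra hc
      push Not at hc
      refine hp fun x hx => ?_
      rw [← hf] at hx
      refine (Ideal.span_le.mpr ?_ : Ideal.span (Set.range f) ≤ (comap φ p).asIdeal) hx
      rintro _ ⟨i, rfl⟩
      refine p.2.mem_of_pow_mem n ?_
      rw [← hker, ← map_pow]
      exact hc i
    obtain ⟨i, hti, hdiv⟩ := exists_dvd_all (fun j => χ (φ (F j))) hf0.choose hf0.choose_spec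
    set ψ := χ.comp φ with hψ
    set t := ψ (F i)
    have htm : t ∈ nonunits V := hnon _ (hIm (Ideal.mem_map_of_mem φ
      (Ideal.pow_mem_of_mem _ (hfI i) _ (Nat.pos_of_ne_zero (hn0 i)))))
    have hfp : φ (f i) ∉ p.asIdeal := fun h => hti (by
      have := (hb0 p i h).2
      rwa [← hker] at this)
    have hmap : (I ^ (N' + 1)).map φ ≤ (Ideal.span {t ^ N}).comap χ :=
      Ideal.map_le_iff_le_comap.mpr fun x hx => htpow ψ t N hdiv x (hN' hx)
    obtain ⟨w, hw⟩ := Ideal.mem_span_singleton.mp (hmap (ha i))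
    rw [map_sub] at hw
    have hN1 : t ^ N = t * t ^ (2 * M) := by rw [hNdef, pow_succ']
    have hsmall : t ^ (2 * M) * w ∈ IsLocalRing.maximalIdeal V :=
      Ideal.mul_mem_right _ _ (Ideal.pow_mem_of_mem _ htm _ (by omega))
    have hx : (comap φ p).asIdeal = RingHom.ker ψ := by
      rw [hψ, ← RingHom.comap_ker, hker]
      rfl
    by_cases hpT : p ∈ T'
    · refine iff_of_true ?_ hpT
      have hb := (hb1 p i hfp).1 hpT
      rw [← hker, RingHom.mem_ker, map_sub, sub_eq_zero] at hb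
      refine (hprop V ψ i (1 - t ^ (2 * M) * w) _ hx hti htm hdiv ?_).mpr ?_
      · show t * (1 - t ^ (2 * M) * w) = χ (φ (a i))
        rw [mul_sub, ← mul_assoc, ← hN1, ← hw, hb, mul_one]
        show t - (t - _) = _
        ring
      · exact IsLocalRing.isUnit_one_sub_self_of_mem_nonunits _ hsmall
    · refine iff_of_false (fun h => ?_) hpT
      have hb := (hb1 p i hfp).2 hpT
      rw [← hker, RingHom.mem_ker] at hb
      have hu := (hprop V ψ i (-(t ^ (2 * M) * w)) _ hx hti htm hdiv (by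
        show t * -(t ^ (2 * M) * w) = χ (φ (a i))
        rw [mul_neg, ← mul_assoc, ← hN1, ← hw, hb, zero_sub, neg_neg])).mp h
      exact (IsLocalRing.mem_maximalIdeal _).mp (neg_mem hsmall) hu
  -- specialisations to the closed subset
  have keyS : ∀ x : PrimeSpectrum A, x ∉ Z → ∀ s, κ' s ∈ comap φ ⁻¹' U → x ≤ κ s →
      (x ∈ W₀ ↔ κ' s ∈ T') := by
    intro x hx s hsU hxs
    rw [Set.mem_preimage, hκ] at hsU
    obtain ⟨_, ⟨h, rfl⟩, hhs, hhU⟩ :=
      isTopologicalBasis_basic_opens.exists_subset_of_mem_open hsU hUo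
    obtain ⟨k, c, hck⟩ := exists_fun (φ h) _ T' hT' hT'' hT'U fun p hp => hhU hp
    obtain ⟨V, _, _, _, ψ, hker, hnon, hunit⟩ := exists_valuationRing' x (κ s) hxs
    have hIs : I ≤ (κ s).asIdeal := fun z hz => by
      show Ideal.Quotient.mk I z ∈ s.asIdeal
      rw [Ideal.Quotient.eq_zero_iff_mem.mpr hz]
      exact zero_mem _
    have hf0 : ∃ i, ψ (F i) ≠ 0 := by
      by_contra hc
      push Not at hc
      refine hx fun z hz => ?_
      rw [← hf] at hz
      refine (Ideal.span_le.mpr ?_ : Ideal.span (Set.range f) ≤ x.asIdeal) hz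
      rintro _ ⟨i, rfl⟩
      refine x.2.mem_of_pow_mem n ?_
      rw [← hker]
      exact hc i
    obtain ⟨i, hti, hdiv⟩ := exists_dvd_all (fun j => ψ (F j)) hf0.choose hf0.choose_spec
    set t := ψ (F i)
    have htm : t ∈ nonunits V := hnon _ (hIs (Ideal.pow_mem_of_mem _ (hfI i) _
      (Nat.pos_of_ne_zero (hn0 i))))
    have hnil : ∀ (_ : Unit) (p : PrimeSpectrum B),
        φ h * (bb i * φ h ^ k - c * φ (F i)) ∈ p.asIdeal := by
      intro _ p
      by_cases hhp : φ h ∈ p.asIdeal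
      · exact Ideal.mul_mem_right _ _ hhp
      refine Ideal.mul_mem_left _ _ ?_
      by_cases hfp : φ (f i) ∈ p.asIdeal
      · exact sub_mem (Ideal.mul_mem_right _ _ (hb0 p i hfp).1) (Ideal.mul_mem_left _ _ (hb0 p i hfp).2)
      by_cases hp : p ∈ T'
      · rw [show bb i * φ h ^ k - c * φ (F i) =
          (bb i - φ (F i)) * φ h ^ k - (c - φ h ^ k) * φ (F i) by ring]
        exact sub_mem (Ideal.mul_mem_right _ _ ((hb1 p i hfp).1 hp))
          (Ideal.mul_mem_right _ _ ((hck p hhp).1 hp))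
      · exact sub_mem (Ideal.mul_mem_right _ _ ((hb1 p i hfp).2 hp))
          (Ideal.mul_mem_right _ _ ((hck p hhp).2 hp))
    obtain ⟨M', hM'0, hM'⟩ := exists_pow_eq_zero _ hnil
    obtain ⟨N'', hN''⟩ := hpow (M' + 1)
    obtain ⟨a', ha'⟩ := hs (N'' + N' + 1) (bb i)
    obtain ⟨c', hc'⟩ := hs (N'' + N' + 1) c
    have h1 : (h * (a' * h ^ k - c' * F i)) ^ M' ∈ I₁ ^ (M' + 1) := by
      refine hN'' (Ideal.pow_le_pow_right (show N'' + 1 ≤ N'' + N' + 1 by omega) (hi _ _ ?_))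
      refine pow_mem_of_pow_eq_zero φ ?_ (hM' ())
      simp only [map_mul, map_sub, map_pow, Ideal.Quotient.eq.mpr ha', Ideal.Quotient.eq.mpr hc']
    have h2 : a' - a i ∈ I₁ ^ N := by
      refine hN' (hi _ _ ?_)
      rw [map_sub, ← sub_sub_sub_cancel_left]
      exact sub_mem (ha i) (Ideal.map_mono (Ideal.pow_le_pow_right (by omega)) ha')
    have hu : IsUnit (ψ h) := hunit h hhs
    obtain ⟨w₁, hw₁⟩ := Ideal.mem_span_singleton.mp (htpow ψ t (M' + 1) hdiv _ h1)
    rw [map_pow, map_mul, mul_pow, map_sub, map_mul, map_mul, map_pow] at hw₁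
    have h3 : t ^ (M' + 1) ∣ (ψ a' * ψ h ^ k - ψ c' * t) ^ M' :=
      (hu.pow M').dvd_mul_left.mp ⟨w₁, hw₁⟩
    have h4 : t ∣ ψ a' * ψ h ^ k - ψ c' * t :=
      (IsIntegrallyClosed.pow_dvd_pow_iff hM'0.ne').mp ((pow_dvd_pow t (Nat.le_succ M')).trans h3)
    obtain ⟨e', he'⟩ : t ∣ ψ a' :=
      (hu.pow k).dvd_mul_right.mp (by simpa using dvd_add h4 (dvd_mul_left t (ψ c')))
    obtain ⟨w₂, hw₂⟩ := Ideal.mem_span_singleton.mp (htpow ψ t N hdiv _ h2)
    rw [map_sub, hNdef, pow_succ', mul_assoc] at hw₂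
    have he : t * (e' - t ^ (2 * M) * w₂) = ψ (a i) := by
      rw [mul_sub, ← he', ← hw₂]
      ring
    have hsmall : (e' - t ^ (2 * M) * w₂) - e' ∈ IsLocalRing.maximalIdeal V := by
      rw [sub_sub_cancel_left]
      exact neg_mem (Ideal.mul_mem_right _ _ (Ideal.pow_mem_of_mem _ htm _ (by omega)))
    have h5 : e' * ψ h ^ k - ψ c' ∈ IsLocalRing.maximalIdeal V := by
      rw [he', show t * e' * ψ h ^ k - ψ c' * t = t * (e' * ψ h ^ k - ψ c') by ring, mul_pow,
        pow_succ] at h3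
      have h6 := (mul_dvd_mul_iff_left (pow_ne_zero M' hti)).mp h3
      refine (IsLocalRing.maximalIdeal.isMaximal V).isPrime.mem_of_pow_mem M' ?_
      obtain ⟨w₃, hw₃⟩ := h6
      rw [hw₃]
      exact Ideal.mul_mem_right _ _ htm
    rw [hprop V ψ i _ x hker.symm hti htm hdiv he, not_mem_unit_iff hsmall]
    have hσc : σ c = Ideal.Quotient.mk I c' := by
      rw [← hσ, RingHom.comp_apply, ← sub_eq_zero, ← map_sub, ← RingHom.mem_ker, hσk]
      exact hle1 _ hc'
    have hσh : σ (φ h) = Ideal.Quotient.mk I h := RingHom.congr_fun hσ h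
    have hh' : φ h ∉ (κ' s).asIdeal := by
      show σ (φ h) ∉ s.asIdeal
      rw [hσh]
      exact hhs
    constructor
    · intro hue
      by_contra hsT
      have hc0 : c' ∈ (κ s).asIdeal := by
        show Ideal.Quotient.mk I c' ∈ s.asIdeal
        rw [← hσc]
        exact (hck _ hh').2 hsT
      have : e' * ψ h ^ k ∈ IsLocalRing.maximalIdeal V := by
        simpa using add_mem h5 (hnon _ hc0 : ψ c' ∈ IsLocalRing.maximalIdeal V)
      exact (IsLocalRing.mem_maximalIdeal _).mp this (hue.mul (hu.pow k))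
    · intro hsT
      have hc0 : c' - h ^ k ∈ (κ s).asIdeal := by
        show Ideal.Quotient.mk I (c' - h ^ k) ∈ s.asIdeal
        rw [map_sub, map_pow, ← hσc, ← hσh, ← map_pow, ← map_sub]
        exact (hck _ hh').1 hsT
      have : e' * ψ h ^ k - ψ h ^ k ∈ IsLocalRing.maximalIdeal V := by
        simpa using add_mem h5 (hnon _ hc0 : ψ (c' - h ^ k) ∈ IsLocalRing.maximalIdeal V)
      exact isUnit_of_mul_isUnit_left ((not_mem_unit_iff this).mpr (hu.pow k))
  -- assembling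
  have hker : RingHom.ker (Ideal.Quotient.mk I) = I := Ideal.mk_ker
  have hD : IsCompact Zᶜ :=
    (QuasiSeparatedSpace.isRetrocompact_iff_isCompact (isClosed_zeroLocus _).isOpen_compl).mp
      (isRetrocompact_zeroLocus_compl_of_fg hI)
  have hcpt : ∀ S : Set (PrimeSpectrum A), S ⊆ Zᶜ → IsOpen (Zᶜ \ S) → IsCompact S := fun S hS hS' => by
    rw [← Set.inter_eq_right.mpr hS, ← Set.sdiff_sdiff_right_self]
    exact hD.inter_right hS'.isClosed_compl
  have hκ'U : κ' ⁻¹' (comap φ ⁻¹' U) = κ ⁻¹' U := by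
    ext s
    simp only [Set.mem_preimage, hκ]
  have hκc : IsCompact (κ ⁻¹' U) :=
    (isClosedEmbedding_comap_of_surjective _ _ Ideal.Quotient.mk_surjective).isCompact_preimage hUc
  have hSc : ∀ T : Set (PrimeSpectrum B), T ⊆ comap φ ⁻¹' U → IsOpen (comap φ ⁻¹' U \ T) →
      IsCompact (κ' ⁻¹' T) := fun T hT hT2 => by
    rw [← Set.inter_eq_right.mpr hT, ← Set.sdiff_sdiff_right_self, Set.preimage_sdiff, hκ'U]
    exact hκc.inter_right (hT2.preimage (continuous_comap σ)).isClosed_compl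
  have hsub : κ '' (κ' ⁻¹' T') ⊆ U := by
    rintro _ ⟨s, hs, rfl⟩
    rw [← hκ]
    exact hT'U hs
  refine ⟨W₀ ∪ κ '' (κ' ⁻¹' T'), Set.union_subset (hW₀s.trans hUI) hsub, ?_, ?_, ?_⟩
  · refine isOpen_union_image _ Ideal.Quotient.mk_surjective (by rwa [hker]) W₀ hW₀
      (hcpt W₀ hW₀s hW₀') _ (hT'.preimage (continuous_comap σ)) (hSc T' hT'U hT'') ?_
    intro x hx s hs hxs
    rw [hker] at hx
    exact (keyS x hx s (hT'U hs) hxs).mpr hs
  · have heq : U \ (W₀ ∪ κ '' (κ' ⁻¹' T')) =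
        (Zᶜ \ W₀) ∪ κ '' (κ' ⁻¹' (comap φ ⁻¹' U \ T')) := by
      ext x
      constructor
      · rintro ⟨hxU, hxW⟩
        by_cases hxZ : x ∈ Z
        · rw [← hκr] at hxZ
          obtain ⟨s, rfl⟩ := hxZ
          exact Or.inr ⟨s, ⟨by rw [Set.mem_preimage, hκ]; exact hxU,
            fun h => hxW (Or.inr ⟨s, h, rfl⟩)⟩, rfl⟩
        · exact Or.inl ⟨hxZ, fun h => hxW (Or.inl h)⟩
      · rintro (⟨hxZ, hxW⟩ | ⟨s, ⟨hsU, hsT⟩, rfl⟩)
        · refine ⟨hUI hxZ, ?_⟩
          rintro (h | ⟨s, -, rfl⟩)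
          · exact hxW h
          · exact hxZ (hκr ▸ Set.mem_range_self s)
        · refine ⟨by rw [← hκ]; exact hsU, ?_⟩
          rintro (h | ⟨s', hs', hss⟩)
          · exact hW₀s h (hκr ▸ Set.mem_range_self s)
          · exact hsT (hκinj hss ▸ hs')
    rw [heq]
    refine isOpen_union_image _ Ideal.Quotient.mk_surjective (by rwa [hker]) _ hW₀' ?_ _
      (hT''.preimage (continuous_comap σ)) ?_ ?_
    · refine hcpt _ Set.sdiff_subset ?_
      rwa [Set.sdiff_sdiff_right_self, Set.inter_eq_right.mpr hW₀s]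
    · refine hSc _ Set.sdiff_subset ?_
      rwa [Set.sdiff_sdiff_right_self, Set.inter_eq_right.mpr hT'U]
    · intro x hx s hs hxs
      rw [hker] at hx
      exact ⟨hx, fun h => hs.2 ((keyS x hx s hs.1 hxs).mp h)⟩
  · ext p
    constructor
    · rintro (h | ⟨s, hs, hse⟩)
      · exact (keyB p (hW₀s h)).mp h
      · have hpI : RingHom.ker σ ≤ p.asIdeal := by
          rw [hσk, Ideal.map_le_iff_le_comap]
          have h0 : κ s ∈ Z := hκr ▸ Set.mem_range_self s
          rw [hse] at h0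
          exact h0
        obtain ⟨s', rfl⟩ : p ∈ Set.range κ' := by
          rw [hκ'def, range_comap_of_surjective _ σ hσs]
          exact hpI
        rw [hκ] at hse
        exact hκinj hse ▸ hs
    · intro hp
      by_cases hpZ : comap φ p ∈ Z
      · have hpI : RingHom.ker σ ≤ p.asIdeal := by
          rw [hσk, Ideal.map_le_iff_le_comap]
          exact hpZ
        obtain ⟨s, rfl⟩ : p ∈ Set.range κ' := by
          rw [hκ'def, range_comap_of_surjective _ σ hσs]
          exact hpI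
        exact Or.inr ⟨s, hp, (hκ s).symm⟩
      · exact Or.inl ((keyB p hpZ).mpr hp)

end Groth.L05.GabberRig
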