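import Mathlib.RingTheory.Spectrum.Prime.Topology
import Mathlib.RingTheory.Valuation.LocalSubring
import Mathlib.RingTheory.Valuation.ValuationRing
import Mathlib.RingTheory.IntegralClosure.IntegrallyClosed
import Mathlib.RingTheory.Ideal.Operations
import Mathlib.Tactic

/-! # Algebraic preliminaries for the rigidity of clopens over henselian pairs -/

set_option autoImplicit false

universe u

namespace Groth.L05.GabberRig

open PrimeSpectrum

variable {A : Type u} [CommRing A]

/-- A clopen subset of an open set is given on a basic open inside it by one element up to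
multiplication by a power of the equation. -/
theorem exists_fun (g : A) (O T : Set (PrimeSpectrum A)) (hT : IsOpen T) (hT' : IsOpen (O \ T))
    (hTO : T ⊆ O) (hg : (basicOpen g : Set (PrimeSpectrum A)) ⊆ O) :
    ∃ (n : ℕ) (c : A), ∀ p : PrimeSpectrum A, g ∉ p.asIdeal →
      (p ∈ T → c - g ^ n ∈ p.asIdeal) ∧ (p ∉ T → c ∈ p.asIdeal) := by
  let L := Localization.Away g
  let π : PrimeSpectrum L → PrimeSpectrum A := comap (algebraMap A L)
  have hπ : ∀ q, g ∉ (π q).asIdeal := fun q hq =>
    q.2.ne_top (Ideal.eq_top_of_isUnit_mem _ hq (IsLocalization.Away.algebraMap_isUnit g))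
  have hc : IsClopen (π ⁻¹' T) := by
    refine ⟨?_, hT.preimage (continuous_comap _)⟩
    rw [← isOpen_compl_iff]
    have : (π ⁻¹' T)ᶜ = π ⁻¹' (O \ T) := by
      ext q
      exact ⟨fun h => ⟨hg (hπ q), h⟩, fun h => h.2⟩
    rw [this]
    exact hT'.preimage (continuous_comap _)
  obtain ⟨e, he, heq⟩ := exists_idempotent_basicOpen_eq_of_isClopen hc
  obtain ⟨n, c, hce⟩ : ∃ (n : ℕ) (c : A), e * algebraMap A L g ^ n = algebraMap A L c :=
    IsLocalization.Away.surj g e
  refine ⟨n, c, fun p hp => ?_⟩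
  obtain ⟨q, rfl⟩ : p ∈ Set.range π := by
    show p ∈ Set.range (comap (algebraMap A L))
    rw [localization_away_comap_range L g]
    exact hp
  have hiff : π q ∈ T ↔ e ∉ q.asIdeal := Set.ext_iff.mp heq q
  have hm : e * (1 - e) ∈ q.asIdeal := by rw [mul_sub, mul_one, he.eq, sub_self]; exact zero_mem _
  constructor
  · intro h
    have h1 : 1 - e ∈ q.asIdeal := (q.2.mem_or_mem hm).resolve_left (hiff.mp h)
    show algebraMap A L (c - g ^ n) ∈ q.asIdeal
    rw [map_sub, map_pow, ← hce, show e * algebraMap A L g ^ n - algebraMap A L g ^ n =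
      -((1 - e) * algebraMap A L g ^ n) by ring]
    exact neg_mem (Ideal.mul_mem_right _ _ h1)
  · intro h
    show algebraMap A L c ∈ q.asIdeal
    rw [← hce]
    exact Ideal.mul_mem_right _ _ (not_not.mp fun h' => h (hiff.mpr h'))

/-- A nonempty finite family in a valuation ring whose members do not all vanish has a nonzero
member dividing all of them. -/
theorem exists_dvd_all {V : Type u} [CommRing V] [IsDomain V] [ValuationRing V] {ι : Type*}
    [Finite ι] (x : ι → V) (i₀ : ι) (h : x i₀ ≠ 0) : ∃ i, x i ≠ 0 ∧ ∀ j, x i ∣ x j := by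
  classical
  haveI := Fintype.ofFinite ι
  suffices ∀ s : Finset ι, ∀ i₀ ∈ s, x i₀ ≠ 0 → ∃ i, x i ≠ 0 ∧ ∀ j ∈ s, x i ∣ x j by
    obtain ⟨i, hi, hj⟩ := this Finset.univ i₀ (Finset.mem_univ _) h
    exact ⟨i, hi, fun j => hj j (Finset.mem_univ _)⟩
  intro s
  induction s using Finset.induction_on with
  | empty => simp
  | @insert a s has ih =>
    intro k hk hk0
    by_cases hs : ∃ k ∈ s, x k ≠ 0
    · obtain ⟨k', hk', hk0'⟩ := hs
      obtain ⟨i, hi, hdiv⟩ := ih k' hk' hk0'
      rcases ValuationRing.dvd_total (x i) (x a) with h1 | h1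
      · exact ⟨i, hi, fun j hj => (Finset.mem_insert.mp hj).elim (fun e => e ▸ h1) (hdiv j)⟩
      · refine ⟨a, fun e => hi (zero_dvd_iff.mp (e ▸ h1)), fun j hj => ?_⟩
        exact (Finset.mem_insert.mp hj).elim (fun e => e ▸ dvd_rfl) (fun hj => h1.trans (hdiv j hj))
    · push Not at hs
      have hka : k = a := (Finset.mem_insert.mp hk).resolve_right fun hk' => hk0 (hs k hk')
      subst hka
      exact ⟨k, hk0, fun j hj => (Finset.mem_insert.mp hj).elim (fun e => e ▸ dvd_rfl)
        (fun hj => (hs j hj).symm ▸ dvd_zero _)⟩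

/-- A specialisation of primes is realised by a valuation ring. -/
theorem exists_valuationRing (x y : PrimeSpectrum A) (hxy : x.asIdeal ≤ y.asIdeal) :
    ∃ (V : Type u) (_ : CommRing V) (_ : IsDomain V) (_ : ValuationRing V) (ψ : A →+* V),
      RingHom.ker ψ = x.asIdeal ∧ ∀ a ∈ y.asIdeal, ψ a ∈ nonunits V := by
  let K := FractionRing (A ⧸ x.asIdeal)
  let j : A →+* K := (algebraMap (A ⧸ x.asIdeal) K).comp (Ideal.Quotient.mk _)
  have hj : RingHom.ker j = x.asIdeal := by
    rw [RingHom.ker_comp_of_injective _ (IsFractionRing.injective _ K), Ideal.mk_ker]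
  have hne : y.asIdeal.map j.rangeRestrict ≠ ⊤ := by
    intro h
    obtain ⟨a, ha, h1⟩ := (Ideal.mem_map_iff_of_surjective _ j.rangeRestrict_surjective).mp
      (h ▸ Submodule.mem_top : (1 : j.range) ∈ y.asIdeal.map j.rangeRestrict)
    have h2 : a - 1 ∈ x.asIdeal := by
      rw [← hj, RingHom.mem_ker, map_sub, map_one, sub_eq_zero]
      exact congrArg Subtype.val h1
    refine y.2.ne_top ((Ideal.eq_top_iff_one _).mpr ?_)
    simpa using sub_mem ha (hxy h2)
  obtain ⟨V, hle, hV⟩ := Ideal.image_subset_nonunits_valuationSubring (y.asIdeal.map j.rangeRestrict) hne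
  refine ⟨V, inferInstance, inferInstance, inferInstance, j.codRestrict V.toSubring
    (fun a => hle (RingHom.mem_range.mpr ⟨a, rfl⟩)), Eq.trans ?_ hj, fun a ha => ?_⟩
  · ext a
    simp only [RingHom.mem_ker]
    exact Subtype.ext_iff
  · exact V.coe_mem_nonunits_iff.mp (hV ⟨_, Ideal.mem_map_of_mem _ ha, rfl⟩)

/-- Cancellation of powers in the presence of a regular element. -/
theorem pow_mem_span_of_mul {R : Type u} [CommRing R] {t x : R} (ht : t ∈ nonZeroDivisors R)
    {M k N : ℕ} (hkN : k * M < N) (h : (t ^ k * x) ^ M ∈ Ideal.span {t} ^ N) :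
    x ^ M ∈ Ideal.span {t} := by
  rw [Ideal.span_singleton_pow, Ideal.mem_span_singleton] at h
  obtain ⟨w, hw⟩ := h
  refine Ideal.mem_span_singleton.mpr ⟨t ^ (N - k * M - 1) * w, ?_⟩
  refine (mul_cancel_left_mem_nonZeroDivisors (pow_mem ht (k * M))).mp ?_
  have hN : N = k * M + 1 + (N - k * M - 1) := by omega
  calc t ^ (k * M) * x ^ M = (t ^ k * x) ^ M := by rw [mul_pow, ← pow_mul]
    _ = t ^ (k * M + 1 + (N - k * M - 1)) * w := by rw [← hN, hw]
    _ = t ^ (k * M) * (t * (t ^ (N - k * M - 1) * w)) := by ring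

end Groth.L05.GabberRig
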