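import Groth.Agent.L05.GabberRig.Algebra
import Groth.Agent.L13.BlowUp.Proper
import Groth.Agent.L27.HenselProperGen
import Groth.Agent.L22.BlowUp
import Mathlib.RingTheory.Bezout
import Mathlib.AlgebraicGeometry.IdealSheaf.Basic

/-! # Clopens of the complement of the closed subset of a henselian pair, from approximate data

The data are elements `a i` which are approximately `0` or `F i` on each piece; the ideal `J` they
generate together with the `F i` is blown up and the clopen is lifted from the exceptional fibre. -/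

set_option autoImplicit false
set_option backward.isDefEq.respectTransparency false
set_option backward.isDefEq.respectTransparency.types false
set_option linter.style.haveILetI false

universe u

open CategoryTheory CategoryTheory.Limits AlgebraicGeometry TopologicalSpace Opposite Topology

noncomputable section

namespace Groth.L05.GabberRig

open Groth.L13.BU

variable {A : Type u} [CommRing A] {Y : Scheme.{u}}

theorem apply_fromSpec (g : Y ⟶ Spec (CommRingCat.of A)) {W : Y.Opens} (hW : IsAffineOpen W)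
    (q : PrimeSpectrum Γ(Y, W)) :
    g (hW.fromSpec q) = PrimeSpectrum.comap (affHom g hW) q := by
  rw [← Scheme.Hom.comp_apply, fromSpec_affHom]
  rfl

theorem fromSpec_mem_basicOpen {W : Y.Opens} (hW : IsAffineOpen W) (q : PrimeSpectrum Γ(Y, W))
    (f : Γ(Y, W)) : hW.fromSpec q ∈ Y.basicOpen f ↔ f ∉ q.asIdeal :=
  (SetLike.ext_iff.mp (hW.fromSpec_preimage_basicOpen (f := f)) q)

theorem exists_fromSpec_eq {W : Y.Opens} (hW : IsAffineOpen W) {y : Y} (hy : y ∈ W) :
    ∃ q : PrimeSpectrum Γ(Y, W), hW.fromSpec q = y :=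
  ⟨hW.primeIdealOf ⟨y, hy⟩, hW.fromSpec_primeIdealOf ⟨y, hy⟩⟩

theorem affHom_res (g : Y ⟶ Spec (CommRingCat.of A)) {U V : Y.Opens} (hU : IsAffineOpen U)
    (hV : IsAffineOpen V) (hVU : V ≤ U) :
    affHom g hV = ((Y.presheaf.map (homOfLE hVU).op).hom).comp (affHom g hU) := by
  have : Spec.map (CommRingCat.ofHom (affHom g hV)) =
      Spec.map (CommRingCat.ofHom (affHom g hU) ≫ Y.presheaf.map (homOfLE hVU).op) := by
    rw [Spec.map_comp]
    refine (fromSpec_affHom g hV).symm.trans (Eq.trans ?_ (congrArg (_ ≫ ·) (fromSpec_affHom g hU)))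
    rw [hU.map_fromSpec_assoc hV]
  exact congrArg (fun ρ => ρ.hom) (Spec.map_injective this)

theorem map_span_res (g : Y ⟶ Spec (CommRingCat.of A)) {U V : Y.Opens} (hU : IsAffineOpen U)
    (hV : IsAffineOpen V) (hVU : V ≤ U) {J : Ideal A} {x : A}
    (h : J.map (affHom g hU) = Ideal.span {affHom g hU x}) :
    J.map (affHom g hV) = Ideal.span {affHom g hV x} := by
  rw [affHom_res g hU hV hVU, ← Ideal.map_map, h, Ideal.map_span, Set.image_singleton]
  rfl

/-- Near every point one of finitely many given generators generates the pulled back ideal. -/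
theorem exists_mem_generator {κ : Type} (G : κ → A) {g : Y ⟶ Spec (CommRingCat.of A)}
    (hY : BlowUp.IsEffCartierIdeal ((idealOf (Ideal.span (Set.range G))).comap g)) (y : Y) :
    ∃ (W : Y.affineOpens) (k : κ), y ∈ W.1 ∧
      (Ideal.span (Set.range G)).map (affHom g W.2) = Ideal.span {affHom g W.2 (G k)} := by
  obtain ⟨W, a, ha, hy, hsp⟩ := exists_local_generator hY y
  rw [comap_affHom] at hsp
  obtain ⟨q, hq⟩ := exists_fromSpec_eq W.2 hy
  have ht := nzd_of_span hY W _ (show _ = Ideal.span {affHom g W.2 a} from (comap_affHom g W _).trans hsp)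
  choose d hd using fun k => Ideal.mem_span_singleton.mp
    (hsp ▸ Ideal.mem_map_of_mem (affHom g W.2) (Ideal.subset_span (Set.mem_range_self (f := G) k)))
  obtain ⟨k, hk⟩ : ∃ k, d k ∉ q.asIdeal := by
    by_contra hcon
    push Not at hcon
    have hle : Ideal.span (Set.range G) ≤
        (Ideal.span {affHom g W.2 a} * q.asIdeal).comap (affHom g W.2) :=
      Ideal.span_le.mpr (by
        rintro _ ⟨k, rfl⟩
        rw [SetLike.mem_coe, Ideal.mem_comap, hd k]
        exact Ideal.mul_mem_mul (Ideal.mem_span_singleton_self _) (hcon k))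
    obtain ⟨p, hp, hpe⟩ := Ideal.mem_span_singleton_mul.mp (hle ha)
    have h1 : p = 1 := (mul_cancel_left_mem_nonZeroDivisors ht).mp (hpe.trans (mul_one _).symm)
    exact q.2.ne_top ((Ideal.eq_top_iff_one _).mpr (h1 ▸ hp))
  refine ⟨⟨Y.basicOpen (d k), W.2.basicOpen (d k)⟩, k, hq ▸ (fromSpec_mem_basicOpen W.2 q _).mpr hk, ?_⟩
  rw [map_span_res g W.2 (W.2.basicOpen (d k)) (Y.basicOpen_le _) hsp,
    affHom_res g W.2 (W.2.basicOpen (d k)) (Y.basicOpen_le _), RingHom.comp_apply,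
    RingHom.comp_apply, hd k, map_mul]
  exact (Ideal.span_singleton_mul_right_unit (Y.toRingedSpace.isUnit_res_basicOpen (d k)) _).symm

section Data

variable {r : ℕ} (F a : Fin r → A) (M N : ℕ)

/-- the generators of the ideal to blow up -/
abbrev gens : Fin r ⊕ Fin r → A := Sum.elim F a

/-- the ideal to blow up -/
abbrev J : Ideal A := Ideal.span (Set.range (gens F a))

/-- the approximate relations of an indicator function -/
structure Data : Prop where
  pos : 0 < M
  lt : 2 * M < N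
  rel₁ : ∀ i, (a i * (a i - F i)) ^ M ∈ Ideal.span (Set.range F) ^ N
  rel₂ : ∀ i j, (a i * F j - a j * F i) ^ M ∈ Ideal.span (Set.range F) ^ N

variable {F a M N} (hd : Data F a M N)
include hd

theorem F_mem (i : Fin r) : F i ∈ J F a := Ideal.subset_span ⟨Sum.inl i, rfl⟩

theorem a_mem (i : Fin r) : a i ∈ J F a := Ideal.subset_span ⟨Sum.inr i, rfl⟩

theorem map_pow_le {R : Type u} [CommRing R] (ρ : A →+* R) {t : R}
    (ht : (J F a).map ρ ≤ Ideal.span {t}) :
    (Ideal.span (Set.range F) ^ N).map ρ ≤ Ideal.span {t} ^ N := by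
  rw [Ideal.map_pow]
  refine Ideal.pow_right_mono (le_trans (Ideal.map_mono ?_) ht) N
  exact Ideal.span_le.mpr (by rintro _ ⟨i, rfl⟩; exact F_mem hd i)

theorem idem_mem {R : Type u} [CommRing R] (ρ : A →+* R) {i : Fin r} {e : R}
    (hi : (J F a).map ρ = Ideal.span {ρ (F i)}) (ht : ρ (F i) ∈ nonZeroDivisors R)
    (he : ρ (F i) * e = ρ (a i)) : (e * (e - 1)) ^ M ∈ Ideal.span {ρ (F i)} := by
  refine pow_mem_span_of_mul ht (k := 2) hd.lt ?_
  have := map_pow_le hd ρ hi.le (Ideal.mem_map_of_mem ρ (hd.rel₁ i))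
  rw [map_pow, map_mul, map_sub, ← he] at this
  convert this using 2
  ring

theorem compare {R : Type u} [CommRing R] (ρ : A →+* R) {i j : Fin r} {e e' : R}
    (hi : (J F a).map ρ = Ideal.span {ρ (F i)}) (hj : (J F a).map ρ = Ideal.span {ρ (F j)})
    (ht : ρ (F i) ∈ nonZeroDivisors R) (he : ρ (F i) * e = ρ (a i)) (he' : ρ (F j) * e' = ρ (a j)) :
    (e - e') ^ M ∈ Ideal.span {ρ (F i)} := by
  obtain ⟨u, hu⟩ := Ideal.mem_span_singleton.mp (hi ▸ Ideal.mem_map_of_mem ρ (F_mem hd j))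
  obtain ⟨v, hv⟩ := Ideal.mem_span_singleton.mp (hj ▸ Ideal.mem_map_of_mem ρ (F_mem hd i))
  have huv : u * v = 1 := (mul_cancel_left_mem_nonZeroDivisors ht).mp (by
    rw [mul_one, ← mul_assoc, ← hu, ← hv])
  have h1 : (u * (e - e')) ^ M ∈ Ideal.span {ρ (F i)} := by
    refine pow_mem_span_of_mul ht (k := 2) hd.lt ?_
    have := map_pow_le hd ρ hi.le (Ideal.mem_map_of_mem ρ (hd.rel₂ i j))
    rw [map_pow, map_sub, map_mul, map_mul, ← he, ← he', hu] at this
    convert this using 2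
    ring
  have h2 := Ideal.mul_mem_left _ (v ^ M) h1
  rwa [← mul_pow, ← mul_assoc, mul_comm v u, huv, one_mul] at h2

end Data

section Charts

variable {r : ℕ} (F a : Fin r → A) (b : Y ⟶ Spec (CommRingCat.of A))

/-- A chart: an affine open on which `F i` generates, with the quotient `e` of `a i` by it. -/
def IsChart (W : Y.affineOpens) (i : Fin r) (e : Γ(Y, W.1)) : Prop :=
  (J F a).map (affHom b W.2) = Ideal.span {affHom b W.2 (F i)} ∧
    affHom b W.2 (F i) * e = affHom b W.2 (a i)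

/-- where the indicator function is invertible -/
def pos₁ : Set Y := {z | ∃ (W : Y.affineOpens) (i : Fin r) (e : Γ(Y, W.1)),
  IsChart F a b W i e ∧ z ∈ Y.basicOpen e}

/-- where one minus the indicator function is invertible -/
def pos₀ : Set Y := {z | ∃ (W : Y.affineOpens) (i : Fin r) (e : Γ(Y, W.1)),
  IsChart F a b W i e ∧ z ∈ Y.basicOpen (1 - e)}

theorem isOpen_pos₁ : IsOpen (pos₁ F a b) := by
  refine isOpen_iff_forall_mem_open.mpr ?_
  rintro z ⟨W, i, e, hc, hz⟩
  exact ⟨Y.basicOpen e, fun z' hz' => ⟨W, i, e, hc, hz'⟩, (Y.basicOpen e).2, hz⟩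

theorem isOpen_pos₀ : IsOpen (pos₀ F a b) := by
  refine isOpen_iff_forall_mem_open.mpr ?_
  rintro z ⟨W, i, e, hc, hz⟩
  exact ⟨Y.basicOpen (1 - e), fun z' hz' => ⟨W, i, e, hc, hz'⟩, (Y.basicOpen (1 - e)).2, hz⟩

variable {F a} {M N : ℕ} (hd : Data F a M N)
  (hY : BlowUp.IsEffCartierIdeal ((idealOf (J F a)).comap b))
include hd hY

theorem exists_chart {z : Y} (hz : b z ∈ PrimeSpectrum.zeroLocus (J F a : Set A)) :
    ∃ (W : Y.affineOpens) (i : Fin r) (e : Γ(Y, W.1)), z ∈ W.1 ∧ IsChart F a b W i e := by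
  suffices ∃ (W : Y.affineOpens) (i : Fin r), z ∈ W.1 ∧
      (J F a).map (affHom b W.2) = Ideal.span {affHom b W.2 (F i)} by
    obtain ⟨W, i, hzW, hW⟩ := this
    obtain ⟨e, he⟩ := Ideal.mem_span_singleton.mp (hW ▸ Ideal.mem_map_of_mem _ (a_mem hd i))
    exact ⟨W, i, e, hzW, hW, he.symm⟩
  obtain ⟨W, k, hzW, hW⟩ := exists_mem_generator (gens F a) hY z
  rcases k with i | i
  · exact ⟨W, i, hzW, hW⟩
  obtain ⟨q, rfl⟩ := exists_fromSpec_eq W.2 hzW
  change (J F a).map (affHom b W.2) = Ideal.span {affHom b W.2 (a i)} at hW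
  have ht := nzd_of_span hY W _ ((comap_affHom b W _).trans hW)
  obtain ⟨d, hFd⟩ := Ideal.mem_span_singleton.mp (hW ▸ Ideal.mem_map_of_mem _ (F_mem hd i))
  have haq : affHom b W.2 (a i) ∈ q.asIdeal := by
    rw [apply_fromSpec] at hz
    exact hz (a_mem hd i)
  have hdq : d ∉ q.asIdeal := by
    intro hdq
    have h1 : (affHom b W.2 (a i) ^ 2 * (1 - d)) ^ M ∈ Ideal.span {affHom b W.2 (a i)} ^ N := by
      have := map_pow_le hd _ hW.le (Ideal.mem_map_of_mem (affHom b W.2) (hd.rel₁ i))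
      rw [map_pow, map_mul, map_sub, hFd] at this
      convert this using 2
      ring
    have h2 := pow_mem_span_of_mul ht (k := 2) hd.lt h1
    obtain ⟨w, hw⟩ := Ideal.mem_span_singleton.mp h2
    have h3 : (1 - d) ^ M ∈ q.asIdeal := hw ▸ Ideal.mul_mem_right _ _ haq
    have h4 := q.2.mem_of_pow_mem M h3
    exact q.2.ne_top ((Ideal.eq_top_iff_one _).mpr (by simpa using add_mem h4 hdq))
  refine ⟨⟨Y.basicOpen d, W.2.basicOpen d⟩, i, (fromSpec_mem_basicOpen W.2 q _).mpr hdq, ?_⟩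
  rw [map_span_res b W.2 (W.2.basicOpen d) (Y.basicOpen_le _) hW,
    affHom_res b W.2 (W.2.basicOpen d) (Y.basicOpen_le _), RingHom.comp_apply,
    RingHom.comp_apply, hFd, map_mul]
  exact (Ideal.span_singleton_mul_right_unit (Y.toRingedSpace.isUnit_res_basicOpen d) _).symm

theorem not_pos₀_of_pos₁ {z : Y} (hz : b z ∈ PrimeSpectrum.zeroLocus (J F a : Set A))
    (h₁ : z ∈ pos₁ F a b) : z ∉ pos₀ F a b := by
  rintro ⟨W', j, e', ⟨hW', he'⟩, hz'⟩
  obtain ⟨W, i, e, ⟨hW, he⟩, hze⟩ := h₁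
  obtain ⟨_, ⟨W'', hW'', rfl⟩, hzW'', hle⟩ := Y.isBasis_affineOpens.exists_subset_of_mem_open
    (show z ∈ W.1 ⊓ W'.1 from ⟨Y.basicOpen_le _ hze, Y.basicOpen_le _ hz'⟩) (W.1 ⊓ W'.1).2
  have l₁ : W'' ≤ W.1 := fun x hx => (hle hx).1
  have l₂ : W'' ≤ W'.1 := fun x hx => (hle hx).2
  obtain ⟨q, rfl⟩ := exists_fromSpec_eq hW'' hzW''
  set ρ := affHom b hW'' with hρ
  set ε := Y.presheaf.map (homOfLE l₁).op e with hε
  set ε' := Y.presheaf.map (homOfLE l₂).op e' with hε'
  have hi := map_span_res b W.2 hW'' l₁ hW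
  have hj := map_span_res b W'.2 hW'' l₂ hW'
  have ht := nzd_of_span hY ⟨W'', hW''⟩ _ ((comap_affHom b ⟨W'', hW''⟩ _).trans hi)
  have hεi : ρ (F i) * ε = ρ (a i) := by
    rw [hρ, affHom_res b W.2 hW'' l₁, RingHom.comp_apply, RingHom.comp_apply, ← he, map_mul]
  have hεj : ρ (F j) * ε' = ρ (a j) := by
    rw [hρ, affHom_res b W'.2 hW'' l₂, RingHom.comp_apply, RingHom.comp_apply, ← he', map_mul]
  have htq : ρ (F i) ∈ q.asIdeal := by
    rw [apply_fromSpec] at hz
    exact hz (F_mem hd i)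
  have hq : ∀ {x : Γ(Y, W'')}, x ^ M ∈ Ideal.span {ρ (F i)} → x ∈ q.asIdeal := fun hx =>
    q.2.mem_of_pow_mem M ((Ideal.span_singleton_le_iff_mem _).mpr htq hx)
  have h1 : ε - ε' ∈ q.asIdeal := hq (compare hd ρ hi hj ht hεi hεj)
  have h2 : ε * (ε - 1) ∈ q.asIdeal := hq (idem_mem hd ρ hi ht hεi)
  have h3 : ε ∉ q.asIdeal := by
    rw [← fromSpec_mem_basicOpen hW'', hε, Y.basicOpen_res]
    exact ⟨hzW'', hze⟩
  have h4 : 1 - ε' ∉ q.asIdeal := by
    rw [← fromSpec_mem_basicOpen hW'',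
      show (1 : Γ(Y, W'')) - ε' = Y.presheaf.map (homOfLE l₂).op (1 - e') by rw [hε', map_sub, map_one],
      Y.basicOpen_res]
    exact ⟨hzW'', hz'⟩
  refine h4 ?_
  have h5 := sub_mem h1 ((q.2.mem_or_mem h2).resolve_left h3)
  rwa [show ε - ε' - (ε - 1) = 1 - ε' by ring] at h5

theorem pos₀_or_pos₁ {z : Y} (hz : b z ∈ PrimeSpectrum.zeroLocus (J F a : Set A)) :
    z ∈ pos₀ F a b ∨ z ∈ pos₁ F a b := by
  obtain ⟨W, i, e, hzW, hc⟩ := exists_chart b hd hY hz
  obtain ⟨q, rfl⟩ := exists_fromSpec_eq W.2 hzW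
  by_cases h : e ∈ q.asIdeal
  · refine Or.inl ⟨W, i, e, hc, (fromSpec_mem_basicOpen W.2 q _).mpr fun h' => ?_⟩
    exact q.2.ne_top ((Ideal.eq_top_iff_one _).mpr (by simpa using add_mem h' h))
  · exact Or.inr ⟨W, i, e, hc, (fromSpec_mem_basicOpen W.2 q _).mpr h⟩

end Charts

theorem coe_support_idealOf (I : Ideal A) :
    ((idealOf I).support : Set (Spec (CommRingCat.of A))) = PrimeSpectrum.zeroLocus (I : Set A) := by
  rw [Scheme.IdealSheafData.coe_support_ofIdealTop, Ideal.map, Scheme.zeroLocus_span,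
    Spec_zeroLocus_eq_zeroLocus]

theorem not_mem_unit_iff {V : Type u} [CommRing V] [IsLocalRing V] {x y : V}
    (h : x - y ∈ IsLocalRing.maximalIdeal V) : IsUnit x ↔ IsUnit y := by
  rw [← IsLocalRing.notMem_maximalIdeal, ← IsLocalRing.notMem_maximalIdeal, not_iff_not]
  exact ⟨fun hx => by simpa using sub_mem hx h, fun hy => by simpa using add_mem h hy⟩

/-- The clopen of the complement of the zero locus given by the data. -/
theorem exists_clopen_of_data {r : ℕ} {F a : Fin r → A} {M N : ℕ} (hd : Data F a M N)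
    [HenselianRing A (J F a)] :
    ∃ W : Set (PrimeSpectrum A), W ⊆ (PrimeSpectrum.zeroLocus (J F a : Set A))ᶜ ∧ IsOpen W ∧
      IsOpen ((PrimeSpectrum.zeroLocus (J F a : Set A))ᶜ \ W) ∧
      ∀ (V : Type u) [CommRing V] [IsDomain V] [ValuationRing V] (ψ : A →+* V) (i : Fin r) (e : V)
        (x : PrimeSpectrum A), x.asIdeal = RingHom.ker ψ → ψ (F i) ≠ 0 → ψ (F i) ∈ nonunits V →
        (∀ j, ψ (F i) ∣ ψ (F j)) → ψ (F i) * e = ψ (a i) → (x ∈ W ↔ IsUnit e) := by
  classical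
  have hfg : (J F a).FG := Submodule.fg_span (Set.finite_range _)
  set b := reesToSpec (J F a) with hb
  haveI : IsProper b := isProper_rees hfg
  have hbu : BlowUp.IsBlowUp b (idealOf (J F a)) := isBlowUp_rees _
  have hY := hbu.1
  set Z := PrimeSpectrum.zeroLocus (J F a : Set A) with hZ
  haveI : IsIso (b ∣_ (idealOf (J F a)).support.compl) := Groth.L22.Ideals.isIso_restrict_compl hbu
  have hC : ∀ x : Spec (CommRingCat.of A), x ∈ (idealOf (J F a)).support.compl ↔ x ∉ Z := fun x => by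
    rw [hZ, ← coe_support_idealOf]
    rfl
  have hinj : ∀ z z', b z = b z' → b z ∉ Z → z = z' := by
    intro z z' h hz
    have h1 : (b ∣_ (idealOf (J F a)).support.compl) ⟨z, (hC _).mpr hz⟩ =
        (b ∣_ (idealOf (J F a)).support.compl) ⟨z', (hC _).mpr (h ▸ hz)⟩ := by
      apply Subtype.ext
      simpa [morphismRestrict_base] using h
    exact congrArg Subtype.val ((b ∣_ (idealOf (J F a)).support.compl).homeomorph.injective h1)
  have hsurj : ∀ x, x ∉ Z → ∃ z, b z = x := by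
    intro x hx
    obtain ⟨z, hz⟩ := (b ∣_ (idealOf (J F a)).support.compl).homeomorph.surjective ⟨x, (hC _).mpr hx⟩
    exact ⟨z.1, by simpa [morphismRestrict_base] using congrArg Subtype.val hz⟩
  let fst := pullback.fst b (Groth.L27.HenselProper.ι (J F a))
  have hrange : ∀ z, z ∈ Set.range fst ↔ b z ∈ Z := fun z => by
    rw [show fst = pullback.fst b (Groth.L27.HenselProper.ι (J F a)) from rfl, Scheme.Pullback.range_fst, Set.mem_preimage, Groth.L27.HenselProper.range_ι]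
  have hclopen : IsClopen (fst ⁻¹' pos₁ F a b) := by
    refine ⟨?_, (isOpen_pos₁ F a b).preimage fst.continuous⟩
    rw [← isOpen_compl_iff]
    have : (fst ⁻¹' pos₁ F a b)ᶜ = fst ⁻¹' pos₀ F a b := by
      ext t
      have ht : b (fst t) ∈ Z := (hrange _).mp ⟨t, rfl⟩
      exact ⟨fun h => (pos₀_or_pos₁ b hd hY ht).resolve_right h,
        fun h h' => not_pos₀_of_pos₁ b hd hY ht h' h⟩
    rw [this]
    exact (isOpen_pos₀ F a b).preimage fst.continuous
  obtain ⟨X₁, hX₁, hX₁'⟩ := Groth.L27.HenselProper.exists_clopen_general (J F a) b _ hclopen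
  have hpos : ∀ z, b z ∈ Z → (z ∈ X₁ ↔ z ∈ pos₁ F a b) := by
    intro z hz
    obtain ⟨t, rfl⟩ := (hrange z).mpr hz
    exact Set.ext_iff.mp hX₁' t
  refine ⟨b '' X₁ ∩ Zᶜ, Set.inter_subset_right, ?_, ?_, ?_⟩
  · have : b '' X₁ ∩ Zᶜ = (b '' X₁ᶜ)ᶜ ∩ Zᶜ := by
      ext x
      refine and_congr_left fun hx => ?_
      constructor
      · rintro ⟨z, hz, rfl⟩ ⟨z', hz', h⟩
        exact hz' (hinj z' z h (by rw [h]; exact hx) ▸ hz)
      · intro h
        obtain ⟨z, rfl⟩ := hsurj x hx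
        exact ⟨z, not_not.mp fun hz => h ⟨z, hz, rfl⟩, rfl⟩
    rw [this]
    exact (b.isClosedMap _ hX₁.compl.isClosed).isOpen_compl.inter
      (PrimeSpectrum.isClosed_zeroLocus _).isOpen_compl
  · rw [Set.sdiff_inter_self_eq_sdiff]
    exact (PrimeSpectrum.isClosed_zeroLocus _).isOpen_compl.inter
      (b.isClosedMap _ hX₁.isClosed).isOpen_compl
  intro V _ _ _ ψ i e x hx ht htm hdiv he
  set t := ψ (F i) with htdef
  haveI : IsIntegrallyClosed V := inferInstance
  have htnzd : t ∈ nonZeroDivisors V := mem_nonZeroDivisors_of_ne_zero ht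
  have hspan : (J F a).map ψ = Ideal.span {t} := by
    refine le_antisymm ?_ (Ideal.span_le.mpr (Set.singleton_subset_iff.mpr
      (Ideal.mem_map_of_mem ψ (F_mem hd i))))
    rw [Ideal.map_span]
    refine Ideal.span_le.mpr ?_
    rintro _ ⟨_, ⟨k, rfl⟩, rfl⟩
    show ψ (gens F a k) ∈ Ideal.span {t}
    rw [Ideal.mem_span_singleton]
    rcases k with j | j
    · exact hdiv j
    obtain ⟨c, hc⟩ := hdiv j
    have h1 : (Ideal.span (Set.range F) ^ N).map ψ ≤ Ideal.span {t ^ N} := by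
      rw [Ideal.map_pow, ← Ideal.span_singleton_pow]
      refine Ideal.pow_right_mono ?_ N
      rw [Ideal.map_span]
      refine Ideal.span_le.mpr ?_
      rintro _ ⟨_, ⟨l, rfl⟩, rfl⟩
      exact Ideal.mem_span_singleton.mpr (hdiv l)
    obtain ⟨w, hw⟩ := Ideal.mem_span_singleton.mp (h1 (Ideal.mem_map_of_mem ψ (hd.rel₂ i j)))
    have h2 : t ^ M ∣ (e * ψ (F j) - ψ (a j)) ^ M := by
      refine ⟨t ^ (N - 2 * M) * w, (mul_right_inj' (pow_ne_zero M ht)).mp ?_⟩
      have hN : N = M + M + (N - 2 * M) := by have := hd.lt; omega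
      calc t ^ M * (e * ψ (F j) - ψ (a j)) ^ M = (t * (e * ψ (F j) - ψ (a j))) ^ M := by rw [mul_pow]
        _ = ψ ((a i * F j - a j * F i) ^ M) := by
          rw [map_pow, map_sub, map_mul, map_mul, ← he]; congr 1; ring
        _ = t ^ (M + M + (N - 2 * M)) * w := by rw [← hN, hw]
        _ = t ^ M * (t ^ M * (t ^ (N - 2 * M) * w)) := by ring
    have h3 := (IsIntegrallyClosed.pow_dvd_pow_iff hd.pos.ne').mp h2
    show t ∣ ψ (a j)
    rw [show ψ (a j) = e * ψ (F j) - (e * ψ (F j) - ψ (a j)) by ring]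
    exact dvd_sub ((hdiv j).mul_left e) h3
  have hg : BlowUp.IsEffCartierIdeal ((idealOf (J F a)).comap (Spec.map (CommRingCat.ofHom ψ))) := by
    intro p
    refine ⟨⟨⊤, isAffineOpen_top _⟩, trivial, (Scheme.ΓSpecIso (CommRingCat.of V)).inv t, ?_, ?_⟩
    · rw [mem_nonZeroDivisors_iff_right]
      intro s hs
      let g := (Scheme.ΓSpecIso (CommRingCat.of V)).commRingCatIsoToRingEquiv
      refine g.map_eq_zero_iff.1 (htnzd.2 _ ?_)
      have h1 := congrArg g hs
      rw [map_mul, map_zero] at h1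
      rwa [show g ((Scheme.ΓSpecIso (CommRingCat.of V)).inv t) = t from g.apply_symm_apply _] at h1
    · rw [comap_SpecMap, hspan, Ideal.map_span, Set.image_singleton]
  obtain ⟨h, hh, -⟩ := hbu.2 _ _ hg
  let m : Spec (CommRingCat.of V) := IsLocalRing.closedPoint V
  let η : Spec (CommRingCat.of V) := (⟨⊥, Ideal.isPrime_bot⟩ : PrimeSpectrum V)
  have hbh : ∀ p, b (h p) = Spec.map (CommRingCat.ofHom ψ) p := fun p => by
    rw [← Scheme.Hom.comp_apply, hh]
  have hbη : b (h η) = x := by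
    rw [hbh]
    exact PrimeSpectrum.ext hx.symm
  have hxZ : x ∉ Z := fun hxZ => ht (RingHom.mem_ker.mp (hx ▸ hxZ (F_mem hd i)))
  have hbm : b (h m) ∈ Z := by
    rw [hbh]
    intro c hc
    show ψ c ∈ IsLocalRing.maximalIdeal V
    obtain ⟨d, hdd⟩ := Ideal.mem_span_singleton.mp (hspan ▸ Ideal.mem_map_of_mem ψ hc)
    rw [hdd]
    exact Ideal.mul_mem_right _ _ htm
  obtain ⟨W, j, e', hmW, hW, he'⟩ := exists_chart b hd hY hbm
  have htop : (h ⁻¹ᵁ W.1) = ⊤ := (IsLocalRing.closed_point_mem_iff (R := V)).mp hmW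
  have hrangeh : Set.range h ⊆ Set.range W.2.fromSpec := by
    rw [W.2.range_fromSpec]
    rintro _ ⟨p, rfl⟩
    show p ∈ h ⁻¹ᵁ W.1
    rw [htop]
    trivial
  obtain ⟨θ, hθ⟩ : ∃ θ : Γ(Proj (Rees.deg (reesAlgebra (J F a))), W.1) ⟶ CommRingCat.of V,
      Spec.map θ = IsOpenImmersion.lift W.2.fromSpec h hrangeh :=
    ⟨Spec.preimage _, Spec.map_preimage _⟩
  have hfac : Spec.map θ ≫ W.2.fromSpec = h := by rw [hθ, IsOpenImmersion.lift_fac]
  have hψ : θ.hom.comp (affHom b W.2) = ψ := by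
    have h1 : Spec.map (CommRingCat.ofHom (affHom b W.2) ≫ θ) = Spec.map (CommRingCat.ofHom ψ) := by
      rw [Spec.map_comp, ← fromSpec_affHom, ← Category.assoc, hfac, hh]
    exact congrArg CommRingCat.Hom.hom (Spec.map_injective h1)
  have hcongr : ∀ c, θ.hom (affHom b W.2 c) = ψ c := fun c => RingHom.congr_fun hψ c
  have hspan' : (J F a).map ψ = Ideal.span {ψ (F j)} := by
    rw [← hψ, ← Ideal.map_map, hW, Ideal.map_span, Set.image_singleton]
    rfl
  have he'' : ψ (F j) * θ.hom e' = ψ (a j) := by rw [← hcongr, ← hcongr, ← map_mul, he']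
  have hee : e - θ.hom e' ∈ IsLocalRing.maximalIdeal V := by
    have h1 := compare hd ψ hspan hspan' htnzd he he''
    refine (IsLocalRing.maximalIdeal.isMaximal V).isPrime.mem_of_pow_mem M ?_
    exact (Ideal.span_singleton_le_iff_mem _).mpr htm h1
  have hhm : h m = W.2.fromSpec (Spec.map θ m) := by
    rw [← Scheme.Hom.comp_apply, hfac]
  have hposm : h m ∈ pos₁ F a b ↔ IsUnit (θ.hom e') := by
    have hb1 : h m ∈ (Proj (Rees.deg (reesAlgebra (J F a)))).basicOpen e' ↔ IsUnit (θ.hom e') := by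
      rw [hhm, fromSpec_mem_basicOpen]
      exact IsLocalRing.notMem_maximalIdeal
    rw [← hb1]
    refine ⟨fun h₁ => ?_, fun h₁ => ⟨W, j, e', ⟨hW, he'⟩, h₁⟩⟩
    by_contra h₂
    refine not_pos₀_of_pos₁ b hd hY hbm h₁ ⟨W, j, e', ⟨hW, he'⟩, ?_⟩
    rw [hhm, fromSpec_mem_basicOpen]
    rw [hhm, fromSpec_mem_basicOpen, not_not] at h₂
    exact fun h' => (IsLocalRing.maximalIdeal.isMaximal V).isPrime.ne_top
      ((Ideal.eq_top_iff_one _).mpr (by
        have : θ.hom (1 - e') + θ.hom e' ∈ IsLocalRing.maximalIdeal V := add_mem h' h₂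
        rwa [← map_add, sub_add_cancel, map_one] at this))
  have hspec : η ⤳ m := IsLocalRing.specializes_closedPoint (R := V) _
  have hgen : h η ∈ X₁ ↔ h m ∈ X₁ := by
    constructor
    · exact fun hη => (hspec.map h.continuous).mem_closed hX₁.isClosed hη
    · exact fun hm => (hspec.map h.continuous).mem_open hX₁.isOpen hm
  rw [not_mem_unit_iff hee, ← hposm, ← hpos _ hbm, ← hgen, ← hbη]
  refine ⟨?_, fun hη => ⟨⟨_, hη, rfl⟩, by rw [hbη]; exact hxZ⟩⟩
  rintro ⟨⟨z, hz, hze⟩, hz'⟩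
  exact hinj z (h η) hze (by rw [hze]; exact hz') ▸ hz

end Groth.L05.GabberRig
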